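import Mathlib
import Cfsg.Agent.Lib.Helper4.Invol

/-! Orbit-stabilizer for conjugacy classes in `Nat.card` form. -/

set_option autoImplicit false

namespace Cfsg.Agent.Lib.Helper4

variable {G : Type*} [Group G]

theorem card_conj_mul_card_centralizer [Finite G] (x : G) :
    Nat.card {v : G // IsConj x v} * Nat.card (Subgroup.centralizer ({x} : Set G)) = Nat.card G := by
  classical
  haveI : Fintype G := Fintype.ofFinite G
  haveI : Fintype (ConjAct G) := inferInstanceAs (Fintype G)
  have h := MulAction.card_orbit_mul_card_stabilizer_eq_card_group (ConjAct G) x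
  rw [Subgroup.nat_card_centralizer_nat_card_stabilizer]
  have e : {v : G // IsConj x v} ≃ MulAction.orbit (ConjAct G) x :=
    Equiv.subtypeEquivRight (fun v => by rw [ConjAct.mem_orbit_conjAct, isConj_comm])
  rw [Nat.card_congr e, Nat.card_eq_fintype_card, Nat.card_eq_fintype_card, h,
    Nat.card_eq_fintype_card]
  exact Fintype.card_congr ConjAct.ofConjAct.toEquiv

end Cfsg.Agent.Lib.Helper4
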