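import Mathlib
import Cfsg.Prelude.Def_Blocks
import Cfsg.Agent.Lib.Helper4.SecondMainE
import Cfsg.Agent.S0936
import Cfsg.Agent.S0919

/-!
# The principal block on a `p`-section (second + third main theorems)
-/

set_option autoImplicit false

namespace Cfsg.Agent.Lib.Helper4

open Cfsg Cfsg.Agent.Lib.Helper78 Cfsg.Agent.Lib.Helper16
open scoped ComplexConjugate

noncomputable section

variable {G : Type*} [Group G] [Fintype G]
variable {M : Ideal AlgInt} {p : ℕ} [Fact p.Prime]

/-- every block of the centralizer of a `p`-element has an induced block -/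
theorem inducedBlockDefined_cen (hM : IsPModular p M) (x : G) (hx : ∃ k : ℕ, orderOf x = p ^ k)
    {b : Set (IrrCharacter (Cen x))} (hb : IsPBlock M b) : InducedBlockDefined M (Cen x) b := by
  have hxC : x ∈ Cen x := Subgroup.mem_centralizer_singleton_iff.2 rfl
  apply Cfsg.Agent.S0919.result p M hM (Subgroup.zpowers x) _ _ _ _ _ b hb
  · obtain ⟨k, hk⟩ := hx
    apply IsPGroup.of_card (n := k)
    rw [Nat.card_zpowers, hk]
  · rw [Subgroup.zpowers_le]; exact hxC
  · intro g hg
    rw [Subgroup.mem_centralizer_singleton_iff]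
    exact (hg x (Subgroup.mem_zpowers x)).symm
  · intro g hg
    have hgx : g * x = x * g := Subgroup.mem_centralizer_singleton_iff.1 hg
    have hcomm : ∀ w ∈ Subgroup.zpowers x, g * w * g⁻¹ = w := by
      rintro w ⟨j, rfl⟩
      have : Commute g (x ^ j) := (show Commute g x from hgx).zpow_right j
      rw [this.eq]; group
    rw [Subgroup.mem_normalizer_iff]
    intro w
    constructor
    · intro hw; rw [hcomm w hw]; exact hw
    · intro hw
      have h2 := hcomm _ hw
      have h3 : g * w * g⁻¹ = w := by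
        have : g * (g * w * g⁻¹) * g⁻¹ = g * w * g⁻¹ := h2
        have h4 : g⁻¹ * (g * (g * w * g⁻¹) * g⁻¹) * g = g⁻¹ * (g * w * g⁻¹) * g := by rw [this]
        simpa [mul_assoc] using h4
      rw [← h3]; exact hw

/-- third main theorem for centralizers of `p`-elements -/
theorem indSet_principalBlock (hM : IsPModular p M) (x : G) (hx : ∃ k : ℕ, orderOf x = p ^ k) :
    indSet M x (principalBlock M G) = principalBlock M (Cen x) := by
  have hMp : M.IsPrime := hM.2.1.isPrime
  ext ψ
  have h1 := Cfsg.Agent.S0936.result p M hM (Cen x) (blockOf M (ψ : Cen x → ℂ))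
    (inducedBlockDefined_cen hM x hx (isPBlock_blockOf ψ))
  show IsInducedBlock M _ _ _ ↔ _
  rw [h1]
  constructor
  · intro h
    rw [← h]; exact mem_blockOf_self hMp ψ
  · intro h
    exact (IsPBlock.eq_blockOf hMp isPBlock_principalBlock h).symm

/-- values of principal block characters on the section of `x` -/
theorem principal_apply_eq_blockPart (hM : IsPModular p M) (x : G)
    (hx : ∃ k : ℕ, orderOf x = p ^ k) {χ : IrrCharacter G} (hχ : χ ∈ principalBlock M G)
    (y : Cen x) (hy : ¬ p ∣ orderOf y) :
    (χ : G → ℂ) (x * (y : G)) = blockPart (principalBlock M (Cen x)) (tw x (χ : G → ℂ)) y := by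
  rw [← indSet_principalBlock hM x hx]
  exact apply_eq_blockPart_indSet hM x hx isPBlock_principalBlock hχ y hy

theorem sum_principal_section (hM : IsPModular p M) (x : G) (hx : ∃ k : ℕ, orderOf x = p ^ k)
    (y y' : Cen x) (hy : ¬ p ∣ orderOf y) (hy' : ¬ p ∣ orderOf y') :
    ∑ᶠ ζ ∈ principalBlock M G, (ζ : G → ℂ) (x * (y : G)) * conj ((ζ : G → ℂ) (x * (y' : G)))
      = ∑ᶠ ψ ∈ principalBlock M (Cen x), (ψ : Cen x → ℂ) y * conj ((ψ : Cen x → ℂ) y') := by
  rw [← indSet_principalBlock hM x hx]
  exact sum_block_section hM x hx isPBlock_principalBlock y y' hy hy'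

end

end Cfsg.Agent.Lib.Helper4
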